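import Mathlib

/-!
# The class equation of a group with abelian centralizers of small normalizer index

If the centralizers of the non-central elements are abelian, of index at most `2` in their
normalizers, and there is no abelian subgroup of index at most `2`, then the centre has index
`12`, `24` or `60`.
-/

set_option autoImplicit false
set_option linter.style.haveILetI false

open scoped Pointwise

namespace Cfsg.Agent.CharTheory.DegreeTwo

variable {G : Type*} [Group G] [Finite G]

omit [Finite G] in
theorem card_mul_relIndex_of_le {H K : Subgroup G} (h : H ≤ K) :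
    Nat.card H * H.relIndex K = Nat.card K := by
  rw [← Subgroup.relIndex_bot_left H, ← Subgroup.relIndex_bot_left K,
    Subgroup.relIndex_mul_relIndex ⊥ H K bot_le h]

/-- The arithmetic of the class equation. -/
theorem arith {N : ℕ} (hN : 2 ≤ N) {ι : Type*} (s : Finset ι) (w n : ι → ℕ)
    (hw : ∀ i ∈ s, 2 ≤ w i) (hn : ∀ i ∈ s, n i = 1 ∨ n i = 2) (hle : ∀ i ∈ s, n i * w i ≤ N)
    (hhalf : ∀ i ∈ s, 2 * w i ≠ N ∧ w i ≠ N)
    (heq : ∑ i ∈ s, ((1 : ℚ) - 1 / w i) / n i = 1 - 1 / N) : N = 12 ∨ N = 24 ∨ N = 60 := by
  classical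
  have hNq : (2 : ℚ) ≤ N := by exact_mod_cast hN
  have hwq : ∀ i ∈ s, (1 : ℚ) / w i ≤ 1 / 2 := fun i hi => by
    have : (2 : ℚ) ≤ w i := by exact_mod_cast hw i hi
    exact one_div_le_one_div_of_le two_pos this
  have hN0 : (0 : ℚ) < 1 / N := by positivity
  have hquarter : ∀ i ∈ s, (1 : ℚ) / 4 ≤ ((1 : ℚ) - 1 / w i) / n i := fun i hi => by
    rcases hn i hi with h | h <;> rw [h] <;> norm_num <;> have := hwq i hi <;>
      simp only [one_div] at * <;> linarith
  have hs : s.card ≤ 3 := by
    by_contra hs
    have h1 := Finset.card_nsmul_le_sum s _ _ hquarter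
    have h2 : (4 : ℚ) ≤ s.card := by exact_mod_cast Nat.lt_of_not_le hs
    rw [nsmul_eq_mul, heq] at h1
    nlinarith
  -- the possible numerical cases
  have hpair : ∀ a b : ℕ, 2 ≤ a → 2 ≤ b → a ≤ N → 2 * b ≤ N → N ≠ 2 * b →
      (1 : ℚ) - 1 / a + (1 - 1 / b) / 2 = 1 - 1 / N → N = 12 ∨ N = 24 ∨ N = 60 := by
    intro a b ha hb haN hbN hne h
    have ha' : (2 : ℚ) ≤ a := by exact_mod_cast ha
    have hb' : (2 : ℚ) ≤ b := by exact_mod_cast hb
    field_simp at h
    have h' : a * b * N + 2 * (a * b) = 2 * (b * N) + a * N := by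
      have : ((a * b * N + 2 * (a * b) : ℕ) : ℚ) = ((2 * (b * N) + a * N : ℕ) : ℚ) := by
        push_cast
        linear_combination h
      exact_mod_cast this
    have ha3 : a ≤ 3 := by
      by_contra ha3
      have ha4 : 4 ≤ a := by omega
      have hab : a + 2 * b ≤ a * b := by nlinarith
      have := Nat.mul_le_mul_right N hab
      have : 0 < a * b := by positivity
      nlinarith
    interval_cases a
    · exact absurd (by nlinarith : N = 2 * b) hne
    · have hb2 : b ≤ 2 := by nlinarith
      obtain rfl : b = 2 := by omega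
      left; omega
  have htriple : ∀ a b c : ℕ, 2 ≤ a → a ≤ b → b ≤ c → 2 * c ≤ N → N ≠ 2 * c →
      ((1 : ℚ) - 1 / a) / 2 + (1 - 1 / b) / 2 + (1 - 1 / c) / 2 = 1 - 1 / N →
      N = 12 ∨ N = 24 ∨ N = 60 := by
    intro a b c ha hab hbc hcN hne h
    have ha' : (2 : ℚ) ≤ a := by exact_mod_cast ha
    have hb' : (2 : ℚ) ≤ b := by exact_mod_cast ha.trans hab
    have hc' : (2 : ℚ) ≤ c := by exact_mod_cast ha.trans (hab.trans hbc)
    field_simp at h
    have h' : a * b * c * N + 2 * (a * b * c) = b * c * N + a * c * N + a * b * N := by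
      have : ((a * b * c * N + 2 * (a * b * c) : ℕ) : ℚ) =
          ((b * c * N + a * c * N + a * b * N : ℕ) : ℚ) := by
        push_cast
        linear_combination h
      exact_mod_cast this
    have ha2 : a ≤ 2 := by
      by_contra ha2
      have : 3 ≤ a := by omega
      have h3 : 3 ≤ b := by omega
      have h4 : 3 ≤ c := by omega
      have := Nat.mul_le_mul_right (b * c * N) this
      have := Nat.mul_le_mul_right (a * c * N) h3
      have := Nat.mul_le_mul_right (a * b * N) h4
      have : 0 < a * b * c := by positivity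
      nlinarith
    obtain rfl : a = 2 := by omega
    have hb3 : b ≤ 3 := by
      by_contra hb3
      have h3 : 4 ≤ b := by omega
      have h4 : 4 ≤ c := by omega
      have := Nat.mul_le_mul_right (2 * c * N) h3
      have := Nat.mul_le_mul_right (2 * b * N) h4
      have : 0 < b * c := by positivity
      nlinarith
    interval_cases b
    · exact absurd (by nlinarith : N = 2 * c) hne
    · have hc5 : c ≤ 5 := by nlinarith
      interval_cases c <;> omega
  rcases Nat.lt_or_ge s.card 2 with h2 | h2
  · rcases Nat.lt_or_ge s.card 1 with h1 | h1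
    · obtain rfl : s = ∅ := Finset.card_eq_zero.1 (by omega)
      simp only [Finset.sum_empty] at heq
      have : (1 : ℚ) / N ≤ 1 / 2 := one_div_le_one_div_of_le two_pos hNq
      linarith
    obtain ⟨i, rfl⟩ := Finset.card_eq_one.1 (by omega : s.card = 1)
    simp only [Finset.sum_singleton] at heq
    have hi := Finset.mem_singleton_self i
    rcases hn i hi with h | h <;> rw [h] at heq
    · exfalso
      refine (hhalf i hi).2 ?_
      have h3 : (1 : ℚ) / w i = 1 / N := by linear_combination -heq
      simp only [one_div, inv_inj] at h3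
      exact_mod_cast h3
    · have h3 : (0 : ℚ) < 1 / w i := by have := hw i hi; positivity
      have h4 : (1 : ℚ) / N ≤ 1 / 2 := one_div_le_one_div_of_le two_pos hNq
      push_cast at heq
      linarith
  rcases Nat.lt_or_ge s.card 3 with h3 | h3
  · obtain ⟨i, j, hij, rfl⟩ := Finset.card_eq_two.1 (by omega : s.card = 2)
    rw [Finset.sum_pair hij] at heq
    have hi : i ∈ ({i, j} : Finset ι) := by simp
    have hj : j ∈ ({i, j} : Finset ι) := by simp
    have q1 := hwq i hi
    have q2 := hwq j hj
    rcases hn i hi with a | a <;> rcases hn j hj with b | b <;> rw [a, b] at heq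
    · push_cast at heq
      linarith
    · refine hpair _ _ (hw i hi) (hw j hj) (by have := hle i hi; rwa [a, one_mul] at this)
        (by have := hle j hj; rwa [b] at this) (hhalf j hj).1.symm (by simpa using heq)
    · refine hpair _ _ (hw j hj) (hw i hi) (by have := hle j hj; rwa [b, one_mul] at this)
        (by have := hle i hi; rwa [a] at this) (hhalf i hi).1.symm ?_
      push_cast at heq
      linarith
    · exfalso
      have e1 : (2 : ℚ) * w i ≤ N := by
        have := hle i hi; rw [a] at this; exact_mod_cast this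
      have e2 : (2 : ℚ) * w j ≤ N := by
        have := hle j hj; rw [b] at this; exact_mod_cast this
      have w1 : (0 : ℚ) < w i := by exact_mod_cast (show 0 < w i by have := hw i hi; omega)
      have w2 : (0 : ℚ) < w j := by exact_mod_cast (show 0 < w j by have := hw j hj; omega)
      have f1 : (2 : ℚ) / N ≤ 1 / w i := by rw [div_le_div_iff₀ (by linarith) w1]; linarith
      have f2 : (2 : ℚ) / N ≤ 1 / w j := by rw [div_le_div_iff₀ (by linarith) w2]; linarith
      have f3 : (2 : ℚ) / N = 2 * (1 / N) := by ring
      push_cast at heq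
      linarith
  obtain ⟨i, j, k, hij, hik, hjk, rfl⟩ := Finset.card_eq_three.1 (by omega : s.card = 3)
  rw [Finset.sum_insert (by simp [hij, hik]), Finset.sum_pair hjk] at heq
  have hi : i ∈ ({i, j, k} : Finset ι) := by simp
  have hj : j ∈ ({i, j, k} : Finset ι) := by simp
  have hk : k ∈ ({i, j, k} : Finset ι) := by simp
  have q1 := hwq i hi
  have q2 := hwq j hj
  have q3 := hwq k hk
  rcases hn i hi with a | a <;> rcases hn j hj with b | b <;> rcases hn k hk with c | c <;>
    rw [a, b, c] at heq <;> push_cast at heq <;> try linarith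
  have hi2 : 2 * w i ≤ N ∧ N ≠ 2 * w i :=
    ⟨by have := hle i hi; rwa [a] at this, (hhalf i hi).1.symm⟩
  have hj2 : 2 * w j ≤ N ∧ N ≠ 2 * w j :=
    ⟨by have := hle j hj; rwa [b] at this, (hhalf j hj).1.symm⟩
  have hk2 : 2 * w k ≤ N ∧ N ≠ 2 * w k :=
    ⟨by have := hle k hk; rwa [c] at this, (hhalf k hk).1.symm⟩
  have hi0 := hw i hi
  have hj0 := hw j hj
  have hk0 := hw k hk
  rcases le_total (w i) (w j) with o1 | o1 <;> rcases le_total (w j) (w k) with o2 | o2 <;>
    rcases le_total (w i) (w k) with o3 | o3
  all_goals first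
    | exact htriple (w i) (w j) (w k) hi0 o1 o2 hk2.1 hk2.2 (by linarith)
    | exact htriple (w i) (w k) (w j) hi0 o3 o2 hj2.1 hj2.2 (by linarith)
    | exact htriple (w j) (w i) (w k) hj0 o1 o3 hk2.1 hk2.2 (by linarith)
    | exact htriple (w j) (w k) (w i) hj0 o2 o3 hi2.1 hi2.2 (by linarith)
    | exact htriple (w k) (w i) (w j) hk0 o3 o1 hj2.1 hj2.2 (by linarith)
    | exact htriple (w k) (w j) (w i) hk0 o2 o1 hi2.1 hi2.2 (by linarith)

/-- The centralizers of two non-central elements which share a non-central element coincide. -/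
theorem centralizer_eq_of_mem
    (hab : ∀ g : G, g ∉ Subgroup.center G → ∀ x ∈ Subgroup.centralizer ({g} : Set G),
      ∀ y ∈ Subgroup.centralizer ({g} : Set G), x * y = y * x)
    {g h : G} (hg : g ∉ Subgroup.center G) (hh : h ∉ Subgroup.center G)
    (hmem : h ∈ Subgroup.centralizer ({g} : Set G)) :
    Subgroup.centralizer ({h} : Set G) = Subgroup.centralizer ({g} : Set G) := by
  have hgh : g ∈ Subgroup.centralizer ({h} : Set G) := by
    rw [Subgroup.mem_centralizer_singleton_iff] at hmem ⊢
    exact hmem.symm
  refine le_antisymm (fun x hx => ?_) fun x hx => ?_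
  · rw [Subgroup.mem_centralizer_singleton_iff]
    exact (hab h hh x hx g hgh)
  · rw [Subgroup.mem_centralizer_singleton_iff]
    exact (hab g hg x hx h hmem)

theorem center_lt_centralizer {g : G} (hg : g ∉ Subgroup.center G) :
    2 * Nat.card (Subgroup.center G) ≤ Nat.card (Subgroup.centralizer ({g} : Set G)) := by
  have hle : Subgroup.center G ≤ Subgroup.centralizer ({g} : Set G) :=
    Subgroup.center_le_centralizer _
  have hne : (Subgroup.center G).relIndex (Subgroup.centralizer ({g} : Set G)) ≠ 1 := by
    intro h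
    exact hg (Subgroup.relIndex_eq_one.1 h (Subgroup.mem_centralizer_singleton_iff.2 rfl))
  have h := card_mul_relIndex_of_le hle
  rcases Nat.lt_or_ge ((Subgroup.center G).relIndex (Subgroup.centralizer ({g} : Set G))) 2 with h2 | h2
  · have h3 : (Subgroup.center G).relIndex (Subgroup.centralizer ({g} : Set G)) = 0 := by omega
    rw [h3, mul_zero] at h
    exact absurd h.symm Nat.card_pos.ne'
  · calc 2 * Nat.card (Subgroup.center G)
        ≤ (Subgroup.center G).relIndex (Subgroup.centralizer ({g} : Set G)) *
            Nat.card (Subgroup.center G) := Nat.mul_le_mul_right _ h2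
      _ = _ := by rw [mul_comm, h]

theorem index_center
    (hab : ∀ g : G, g ∉ Subgroup.center G → ∀ x ∈ Subgroup.centralizer ({g} : Set G),
      ∀ y ∈ Subgroup.centralizer ({g} : Set G), x * y = y * x)
    (hnorm : ∀ g : G, g ∉ Subgroup.center G →
      (Subgroup.centralizer ({g} : Set G)).relIndex
        (Subgroup.normalizer ((Subgroup.centralizer ({g} : Set G) : Subgroup G) : Set G)) ≤ 2)
    (hno : ∀ A : Subgroup G, (∀ x ∈ A, ∀ y ∈ A, x * y = y * x) → A.index ≠ 1 ∧ A.index ≠ 2) :
    (Subgroup.center G).index = 12 ∨ (Subgroup.center G).index = 24 ∨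
      (Subgroup.center G).index = 60 := by
  classical
  haveI := Fintype.ofFinite G
  haveI := Fintype.ofFinite (Subgroup G)
  set Z := Subgroup.center G with hZdef
  let S : Finset (Subgroup G) :=
    Finset.univ.filter fun A => ∃ g, g ∉ Z ∧ A = Subgroup.centralizer ({g} : Set G)
  have hS : ∀ A, A ∈ S ↔ ∃ g, g ∉ Z ∧ A = Subgroup.centralizer ({g} : Set G) := fun A => by
    simp [S]
  have hSsmul : ∀ (c : ConjAct G) (A : Subgroup G), A ∈ S → c • A ∈ S := by
    intro c A hA
    obtain ⟨g, hg, rfl⟩ := (hS A).1 hA
    refine (hS _).2 ⟨c • g, fun h => hg ?_, ?_⟩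
    · rw [hZdef, Subgroup.mem_center_iff] at h ⊢
      intro x
      have h' := h (c • x)
      rw [← smul_mul', ← smul_mul'] at h'
      exact smul_left_cancel c h'
    · ext x
      rw [Subgroup.mem_pointwise_smul_iff_inv_smul_mem, Subgroup.mem_centralizer_singleton_iff,
        Subgroup.mem_centralizer_singleton_iff]
      constructor
      · intro h
        have h' := congrArg (c • ·) h
        simpa only [smul_mul', smul_inv_smul] using h'
      · intro h
        apply smul_left_cancel c
        simpa only [smul_mul', smul_inv_smul] using h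
  -- every non-central element lies in exactly one member
  have hpart : ∀ x : G, x ∉ Z → ∀ A ∈ S, x ∈ A → A = Subgroup.centralizer ({x} : Set G) := by
    intro x hx A hA hxA
    obtain ⟨g, hg, rfl⟩ := (hS A).1 hA
    exact (centralizer_eq_of_mem hab hg hx hxA).symm
  have hcardN : Fintype.card G = Nat.card G := Nat.card_eq_fintype_card.symm
  have hcount : (Nat.card G : ℚ) - Nat.card Z =
      ∑ A ∈ S, ((Nat.card A : ℚ) - Nat.card Z) := by
    have h1 : ((Finset.univ.filter fun x : G => x ∉ Z).card : ℚ) =
        ∑ A ∈ S, (((Finset.univ.filter fun x : G => x ∉ Z).filter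
          fun x => Subgroup.centralizer ({x} : Set G) = A).card : ℚ) := by
      exact_mod_cast Finset.card_eq_sum_card_fiberwise (fun x hx => (hS _).2
        ⟨x, (Finset.mem_filter.1 hx).2, rfl⟩)
    have hsplit : ∀ P : G → Prop, (∀ x, x ∈ Z → P x) →
        ((Finset.univ.filter fun x : G => P x ∧ x ∉ Z).card : ℚ) =
          (Finset.univ.filter P).card - Nat.card Z := by
      intro P hP
      have h2 := Finset.card_filter_add_card_filter_not
        (s := Finset.univ.filter P) (fun x : G => x ∈ Z)
      rw [Finset.filter_filter, Finset.filter_filter] at h2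
      have h3 : (Finset.univ.filter fun x : G => P x ∧ x ∈ Z).card = Nat.card Z := by
        rw [show (Finset.univ.filter fun x : G => P x ∧ x ∈ Z) =
            Finset.univ.filter fun x : G => x ∈ Z from
          Finset.filter_congr fun x _ => ⟨fun h => h.2, fun h => ⟨hP x h, h⟩⟩,
          ← Fintype.card_subtype, ← Nat.card_eq_fintype_card]
      rw [← h2, h3]
      push_cast
      ring
    have h4 := hsplit (fun _ => True) fun _ _ => trivial
    simp only [true_and, Finset.filter_true, Finset.card_univ, hcardN] at h4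
    rw [← h4, h1]
    refine Finset.sum_congr rfl fun A hA => ?_
    have hZA : Z ≤ A := by
      obtain ⟨g, -, rfl⟩ := (hS A).1 hA
      exact Subgroup.center_le_centralizer _
    rw [Finset.filter_filter, show (Finset.univ.filter fun x : G =>
        x ∉ Z ∧ Subgroup.centralizer ({x} : Set G) = A) =
      Finset.univ.filter fun x : G => x ∈ A ∧ x ∉ Z from Finset.filter_congr fun x _ =>
        ⟨fun h => ⟨h.2 ▸ Subgroup.mem_centralizer_singleton_iff.2 rfl, h.1⟩,
          fun h => ⟨h.2, (hpart x h.2 A hA h.1).symm⟩⟩,
      hsplit (fun x => x ∈ A) hZA, ← Fintype.card_subtype, ← Nat.card_eq_fintype_card]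
  -- split into orbits
  let q : Subgroup G → MulAction.orbitRel.Quotient (ConjAct G) (Subgroup G) := Quotient.mk''
  let T := S.image q
  rw [← Finset.sum_fiberwise_of_maps_to (t := T) (g := q)
    (fun A hA => Finset.mem_image_of_mem _ hA)] at hcount
  have hrep : ∀ o ∈ T, ∃ A ∈ S, q A = o := fun o ho => Finset.mem_image.1 ho
  choose! R hRS hRq using hrep
  set z : ℕ := Nat.card Z with hz
  have hz0 : 0 < z := Nat.card_pos
  let w : MulAction.orbitRel.Quotient (ConjAct G) (Subgroup G) → ℕ := fun o => Z.relIndex (R o)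
  let n : MulAction.orbitRel.Quotient (ConjAct G) (Subgroup G) → ℕ := fun o =>
    (R o).relIndex (Subgroup.normalizer ((R o : Subgroup G) : Set G))
  have hcardA : ∀ o ∈ T, Nat.card (R o) = z * w o := by
    intro o ho
    obtain ⟨g, -, hg⟩ := (hS _).1 (hRS o ho)
    refine (card_mul_relIndex_of_le ?_).symm
    rw [hg]
    exact Subgroup.center_le_centralizer _
  have hNG : Nat.card G = z * Z.index := (Subgroup.card_mul_index Z).symm
  have hfib : ∀ o ∈ T, ((S.filter fun A => q A = o).card : ℕ) * (n o * w o) = Z.index := by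
    intro o ho
    have hA := hRS o ho
    have hset : ((S.filter fun A => q A = o : Finset (Subgroup G)) : Set (Subgroup G)) =
        MulAction.orbit (ConjAct G) (R o) := by
      ext A
      simp only [Finset.coe_filter, Set.mem_setOf_eq]
      constructor
      · rintro ⟨-, hq⟩
        rw [← hRq o ho] at hq
        exact MulAction.orbitRel_apply.1 (Quotient.eq''.1 hq)
      · intro hA'
        refine ⟨?_, ?_⟩
        · obtain ⟨c, rfl⟩ := hA'
          exact hSsmul c _ hA
        · rw [← hRq o ho]
          exact Quotient.eq''.2 (MulAction.orbitRel_apply.2 hA')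
    have hstab : MulAction.stabilizer (ConjAct G) (R o) =
        (Subgroup.normalizer ((R o : Subgroup G) : Set G)).comap ConjAct.ofConjAct.toMonoidHom := by
      ext c
      rw [MulAction.mem_stabilizer_iff]
      change _ ↔ ConjAct.ofConjAct c ∈ Subgroup.normalizer _
      rw [Subgroup.mem_normalizer_iff]
      constructor
      · intro h x
        have h' := SetLike.ext_iff.1 h (c • x)
        rw [Subgroup.smul_mem_pointwise_smul_iff, ConjAct.smul_def] at h'
        exact h'
      · intro h
        ext x
        have h' := h ((ConjAct.ofConjAct c)⁻¹ * x * ConjAct.ofConjAct c)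
        rw [Subgroup.mem_pointwise_smul_iff_inv_smul_mem, ConjAct.smul_def, ConjAct.ofConjAct_inv,
          inv_inv]
        simpa [mul_assoc] using h'
    have hcard : (S.filter fun A => q A = o).card =
        (Subgroup.normalizer ((R o : Subgroup G) : Set G)).index := by
      rw [← Set.ncard_coe_finset, hset, ← MulAction.index_stabilizer, hstab]
      exact Subgroup.index_comap_of_surjective _ (f := ConjAct.ofConjAct.toMonoidHom)
        ConjAct.ofConjAct.surjective
    have h1 := card_mul_relIndex_of_le
      (H := R o) (K := Subgroup.normalizer ((R o : Subgroup G) : Set G)) Subgroup.le_normalizer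
    have h2 := Subgroup.card_mul_index (Subgroup.normalizer ((R o : Subgroup G) : Set G))
    rw [hcard]
    apply Nat.eq_of_mul_eq_mul_left hz0
    calc z * ((Subgroup.normalizer ((R o : Subgroup G) : Set G)).index * (n o * w o))
        = (z * w o) * n o * (Subgroup.normalizer ((R o : Subgroup G) : Set G)).index := by ring
      _ = z * Z.index := by rw [← hcardA o ho, h1, h2, hNG]
  have hN : 2 ≤ Z.index := by
    by_contra h
    have h1 : Z.index = 1 := by
      have : Z.index ≠ 0 := Subgroup.index_ne_zero_of_finite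
      omega
    exact (hno Z fun x hx y _ => (Subgroup.mem_center_iff.1 hx y).symm).1 h1
  have hw2 : ∀ o ∈ T, 2 ≤ w o := by
    intro o ho
    obtain ⟨g, hg, hgA⟩ := (hS _).1 (hRS o ho)
    have h1 := center_lt_centralizer hg
    rw [← hgA, hcardA o ho, ← hz, mul_comm] at h1
    exact Nat.le_of_mul_le_mul_left (by rwa [mul_comm z (w o), mul_comm (w o) z] at h1) hz0
  have hn2 : ∀ o ∈ T, n o = 1 ∨ n o = 2 := by
    intro o ho
    obtain ⟨g, hg, hgA⟩ := (hS _).1 (hRS o ho)
    have h1 := hnorm g hg
    rw [← hgA] at h1
    have h2 : n o ≠ 0 := fun h => by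
      have := hfib o ho
      rw [h, zero_mul, mul_zero] at this
      omega
    have h3 : n o ≤ 2 := h1
    omega
  refine arith hN T w n hw2 hn2 (fun o ho => ?_) (fun o ho => ?_) ?_
  · rw [← hfib o ho]
    refine Nat.le_mul_of_pos_left _ (Nat.pos_of_ne_zero fun h => ?_)
    have := hfib o ho
    rw [h, zero_mul] at this
    omega
  · obtain ⟨g, hg, hgA⟩ := (hS _).1 (hRS o ho)
    have hi := hno (R o) (hgA ▸ hab g hg)
    have h1 : w o * (R o).index = Z.index := by
      apply Nat.eq_of_mul_eq_mul_left hz0
      rw [← mul_assoc, ← hcardA o ho, Subgroup.card_mul_index, hNG]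
    refine ⟨fun h => hi.2 ?_, fun h => hi.1 ?_⟩
    · exact Nat.eq_of_mul_eq_mul_left (show 0 < w o by have := hw2 o ho; omega)
        (by rw [h1, ← h, mul_comm])
    · exact Nat.eq_of_mul_eq_mul_left (show 0 < w o by have := hw2 o ho; omega)
        (by rw [h1, h, mul_one])
  · have hNq : (Z.index : ℚ) ≠ 0 := by exact_mod_cast Subgroup.index_ne_zero_of_finite
    have hzq : (z : ℚ) ≠ 0 := by exact_mod_cast hz0.ne'
    have hsum : ∀ o ∈ T, ∑ A ∈ S.filter (fun A => q A = o), ((Nat.card A : ℚ) - z) =
        (z : ℚ) * Z.index * (((1 : ℚ) - 1 / w o) / n o) := by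
      intro o ho
      have hc : ∀ A ∈ S.filter (fun A => q A = o), (Nat.card A : ℚ) - z = (z : ℚ) * w o - z := by
        intro A hA
        obtain ⟨-, hq⟩ := Finset.mem_filter.1 hA
        rw [← hRq o ho] at hq
        obtain ⟨c, hc⟩ := MulAction.orbitRel_apply.1 (Quotient.eq''.1 hq)
        have : Nat.card A = Nat.card (R o) := by
          rw [← hc]
          exact Nat.card_congr (Subgroup.equivSMul c (R o)).toEquiv.symm
        rw [this, hcardA o ho]
        push_cast
        ring
      rw [Finset.sum_congr rfl hc, Finset.sum_const, nsmul_eq_mul]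
      have hwq : (w o : ℚ) ≠ 0 := by exact_mod_cast (show w o ≠ 0 by have := hw2 o ho; omega)
      have hnq : (n o : ℚ) ≠ 0 := by
        exact_mod_cast (show n o ≠ 0 by rcases hn2 o ho with h | h <;> omega)
      have hf : (((S.filter fun A => q A = o).card : ℕ) : ℚ) * ((n o : ℚ) * w o) = Z.index := by
        exact_mod_cast hfib o ho
      rw [← hf]
      field_simp
    rw [Finset.sum_congr rfl hsum, ← Finset.mul_sum, hNG] at hcount
    apply mul_left_cancel₀ (mul_ne_zero hzq hNq)
    have h5 : (z : ℚ) * Z.index * (1 - 1 / Z.index) = (z : ℚ) * Z.index - z := by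
      field_simp
    rw [h5, ← hcount]
    push_cast
    ring

end Cfsg.Agent.CharTheory.DegreeTwo
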