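import Mathlib

/-!
# Two by two complex matrices of finite order and their centralizers
-/

set_option autoImplicit false

namespace Cfsg.Agent.CharTheory.DegreeTwo

open Matrix

local notation "Mat" => Matrix (Fin 2) (Fin 2) ℂ

theorem commutant {M N : Mat} (hM : ∀ c : ℂ, M ≠ c • 1) (h : M * N = N * M) :
    ∃ a b : ℂ, N = a • 1 + b • M := by
  have h00 := congrFun (congrFun h 0) 0
  have h01 := congrFun (congrFun h 0) 1
  have h10 := congrFun (congrFun h 1) 0
  simp only [Matrix.mul_apply, Fin.sum_univ_two] at h00 h01 h10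
  by_cases hq : M 0 1 = 0
  · by_cases hr : M 1 0 = 0
    · have hps : M 0 0 - M 1 1 ≠ 0 := by
        intro hps
        refine hM (M 0 0) ?_
        ext i j
        fin_cases i <;> fin_cases j <;> simp [hq, hr, (sub_eq_zero.1 hps)]
      refine ⟨N 0 0 - (N 0 0 - N 1 1) / (M 0 0 - M 1 1) * M 0 0,
        (N 0 0 - N 1 1) / (M 0 0 - M 1 1), ?_⟩
      have f0 : N 0 1 = 0 := by
        apply mul_left_cancel₀ hps
        rw [mul_zero]
        linear_combination h01 - (N 1 1 - N 0 0) * hq
      have g0 : N 1 0 = 0 := by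
        apply mul_left_cancel₀ hps
        rw [mul_zero]
        linear_combination -h10 + (N 0 0 - N 1 1) * hr
      ext i j
      fin_cases i <;> fin_cases j <;> simp [hq, hr, f0, g0]
      field_simp
      ring
    · refine ⟨N 0 0 - N 1 0 / M 1 0 * M 0 0, N 1 0 / M 1 0, ?_⟩
      ext i j
      fin_cases i <;> fin_cases j <;> simp
      · field_simp
        linear_combination -h00
      · field_simp
      · field_simp
        linear_combination -h10
  · refine ⟨N 0 0 - N 0 1 / M 0 1 * M 0 0, N 0 1 / M 0 1, ?_⟩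
    ext i j
    fin_cases i <;> fin_cases j <;> simp
    · field_simp
    · field_simp
      linear_combination h00
    · field_simp
      linear_combination h01

theorem commute_of_commute {M N N' : Mat} (hM : ∀ c : ℂ, M ≠ c • 1) (h : M * N = N * M)
    (h' : M * N' = N' * M) : N * N' = N' * N := by
  obtain ⟨a, b, rfl⟩ := commutant hM h
  obtain ⟨a', b', rfl⟩ := commutant hM h'
  simp only [add_mul, mul_add, smul_mul_assoc, mul_smul_comm, one_mul, mul_one, smul_smul, smul_add]
  rw [mul_comm a' a, mul_comm b' b, mul_comm a' b, mul_comm b' a]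
  abel

theorem disc_ne_zero {M : Mat} (hM : ∀ c : ℂ, M ≠ c • 1) {n : ℕ} (hn : 0 < n) (h1 : M ^ n = 1) :
    M.trace ^ 2 - 4 * M.det ≠ 0 := by
  intro hd
  set c := M.trace / 2 with hc
  set N := M - c • (1 : Mat) with hN
  have hd' : (M 0 0 + M 1 1) ^ 2 - 4 * (M 0 0 * M 1 1 - M 0 1 * M 1 0) = 0 := by
    rwa [Matrix.trace_fin_two, Matrix.det_fin_two] at hd
  have hc' : c = (M 0 0 + M 1 1) / 2 := by rw [hc, Matrix.trace_fin_two]
  have hNN : N * N = 0 := by
    ext i j
    fin_cases i <;> fin_cases j <;>
      simp [hN, hc', Matrix.mul_apply, Fin.sum_univ_two] <;>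
      first
        | linear_combination (1 / 4 : ℂ) * hd'
        | ring
  have hpow : ∀ k : ℕ, M ^ (k + 1) = c ^ (k + 1) • (1 : Mat) + ((k + 1 : ℂ) * c ^ k) • N := by
    intro k
    induction k with
    | zero => simp [hN]
    | succ k ih =>
      have hMdec : M = c • (1 : Mat) + N := by rw [hN]; abel
      rw [pow_succ, ih, hMdec]
      simp only [add_mul, mul_add, smul_mul_assoc, mul_smul_comm, one_mul, mul_one, smul_smul,
        hNN, smul_zero, add_zero]
      module
  obtain ⟨k, rfl⟩ : ∃ k, n = k + 1 := ⟨n - 1, by omega⟩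
  rw [hpow k] at h1
  have h2 := congrArg (fun X : Mat => X * N) h1
  simp only [add_mul, smul_mul_assoc, one_mul, hNN, smul_zero, add_zero] at h2
  -- `c ^ (k + 1) • N = N`
  by_cases hN0 : N = 0
  · exact hM c (sub_eq_zero.1 hN0)
  have hc1 : c ^ (k + 1) = 1 := by
    by_contra hne
    refine hN0 ?_
    have h3 : (c ^ (k + 1) - 1) • N = 0 := by rw [sub_smul, h2, one_smul, sub_self]
    exact (smul_eq_zero.1 h3).resolve_left (sub_ne_zero.2 hne)
  rw [hc1, one_smul] at h1
  have h4 : ((k + 1 : ℂ) * c ^ k) • N = 0 := by simpa using h1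
  rcases smul_eq_zero.1 h4 with h5 | h5
  · rcases mul_eq_zero.1 h5 with h6 | h6
    · exact Nat.cast_add_one_ne_zero k h6
    · rw [pow_succ, h6, zero_mul] at hc1
      exact zero_ne_one hc1
  · exact hN0 h5

/-- A matrix in the algebra of `M` with the same trace and determinant is `M` or `trace M - M`. -/
theorem conj_cases {M : Mat} (hd : M.trace ^ 2 - 4 * M.det ≠ 0) {a b : ℂ}
    (ht : (a • 1 + b • M).trace = M.trace) (hdet : (a • 1 + b • M).det = M.det) :
    a • 1 + b • M = M ∨ a • 1 + b • M = M.trace • 1 - M := by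
  have e1 : 2 * a + b * M.trace = M.trace := by
    refine Eq.trans ?_ ht
    simp [Matrix.trace_fin_two]
    ring
  have e2 : a ^ 2 + a * b * M.trace + b ^ 2 * M.det = M.det := by
    refine Eq.trans ?_ hdet
    simp [Matrix.trace_fin_two, Matrix.det_fin_two]
    ring
  have e3 : (b ^ 2 - 1) * (M.trace ^ 2 - 4 * M.det) = 0 := by
    linear_combination -4 * e2 + (2 * a + b * M.trace + M.trace) * e1
  rcases mul_eq_zero.1 e3 with h | h
  · rcases mul_eq_zero.1 (show (b - 1) * (b + 1) = 0 by linear_combination h) with hb | hb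
    · have hb' : b = 1 := sub_eq_zero.1 hb
      subst hb'
      have : a = 0 := by linear_combination (1 / 2 : ℂ) * e1
      subst this
      left; simp
    · have hb' : b = -1 := eq_neg_of_add_eq_zero_left hb
      subst hb'
      have : a = M.trace := by linear_combination (1 / 2 : ℂ) * e1
      subst this
      right; simp [sub_eq_add_neg]
  · exact absurd h hd

end Cfsg.Agent.CharTheory.DegreeTwo
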